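import Groth.Agent.Lib.PicBdd.Core
import Groth.Agent.Lib.Exchange.PicTangent.Classes
import Groth.Agent.H41.RelPicLfp
import Groth.Agent.H22.StrictTransform.Near
import Groth.Agent.Lib.AlgSpNormCover.Generic
import Groth.Agent.Lib.CohDelta.IdealMul.DevExt
import Groth.Agent.Lib.Cyc.Dev.SchemeEquiv
import Groth.Agent.Lib.ZarCoh.SupportPullback
import Groth.Agent.Lib.CohDelta.KBC.Descend

/-!
# Bounded families of invertible modules and quasi-compact opens of the Picard scheme
-/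

set_option autoImplicit false
set_option linter.style.haveILetI false

universe u

open CategoryTheory CategoryTheory.Limits AlgebraicGeometry TopologicalSpace Opposite

noncomputable section

namespace Groth.Agent.H54.PicBdd

open Groth.Agent Groth.Agent.Lib

/-- Only one summand survives a functor killing the others. -/
theorem nonempty_map_biproduct_iso {C D : Type*} [Category C] [Category D] [Preadditive C]
    [Preadditive D] (G : C ⥤ D) [G.Additive] {d : ℕ} (A : Fin d → C) [HasBiproduct A] (a : Fin d)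
    (h : ∀ b, b ≠ a → IsZero (G.obj (A b))) : Nonempty (G.obj (⨁ A) ≅ G.obj (A a)) := by
  refine ⟨⟨G.map (biproduct.π A a), G.map (biproduct.ι A a), ?_, ?_⟩⟩
  · rw [← G.map_comp, ← G.map_id, ← biproduct.total, G.map_sum, Finset.sum_eq_single a]
    · intro b _ hb
      rw [G.map_comp, (h b hb).eq_of_tgt (G.map (biproduct.π A b)) 0, zero_comp]
    · simp
  · rw [← G.map_comp, biproduct.ι_π_self, G.map_id]

/-- Modules with the same class are isomorphic. -/
theorem nonempty_iso_of_cl_eq {X : Scheme.{u}} {L M : X.Modules} (h : PicF.cl L = PicF.cl M) :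
    Nonempty (L ≅ M) := by
  replace h := Quot.eqvGen_exact h
  induction h with
  | rel a b h => exact h
  | refl a => exact ⟨Iso.refl a⟩
  | symm a b _ ih => exact ih.map Iso.symm
  | trans a b c _ _ ih₁ ih₂ => exact ih₁.elim fun i => ih₂.map fun j => i ≪≫ j

/-- Finitely many coherent families form a bounded family. -/
theorem isBounded_finite {k : Type u} [Field k] {X : Scheme.{u}} [X.Over (Spec (CommRingCat.of k))]
    [LocallyOfFiniteType (X ↘ Spec (CommRingCat.of k))] {d : ℕ} (T : Fin d → Scheme.{u})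
    (q : ∀ a, T a ⟶ Spec (CommRingCat.of k)) (hq : ∀ a, LocallyOfFiniteType (q a))
    (hqc : ∀ a, CompactSpace (T a)) (M : ∀ a, (Pic13.prodK k X (q a)).Modules)
    (hM : ∀ a, Coh.IsCoh (M a)) :
    Pic13.IsBounded k X (fun L => ∃ a, ∃ (t : Spec (CommRingCat.of k) ⟶ T a) (ht : t ≫ q a = 𝟙 _),
      Nonempty (Pic13.fibreMod k X (q a) t ht (M a) ≅ L)) := by
  let T' : ULift.{u} (Fin d) → Scheme.{u} := fun a => T a.down
  let TT : Scheme.{u} := ∐ T'
  let qq : TT ⟶ Spec (CommRingCat.of k) := Sigma.desc fun a => q a.down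
  have hqq : ∀ a, Sigma.ι T' a ≫ qq = q a.down := fun a => Sigma.ι_desc _ a
  haveI : LocallyOfFiniteType qq :=
    IsZariskiLocalAtSource.sigmaDesc (P := @LocallyOfFiniteType) fun a => hq a.down
  haveI : ∀ a, CompactSpace (T' a) := fun a => hqc a.down
  haveI : CompactSpace TT := ⟨by
    rw [show (Set.univ : Set TT) = ⋃ a, Set.range (Sigma.ι T' a) from
      (Set.eq_univ_of_forall fun z => by
        obtain ⟨a, y, rfl⟩ := AlgSpNormCover.exists_sigmaι_eq T' z
        exact Set.mem_iUnion.2 ⟨a, y, rfl⟩).symm]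
    exact isCompact_iUnion fun a => isCompact_range (Sigma.ι T' a).continuous⟩
  have hcqq : QuasiCompact qq := (quasiCompact_iff_compactSpace qq).2 inferInstance
  let f := X ↘ Spec (CommRingCat.of k)
  let j : ∀ a : Fin d, Pic13.prodK k X (q a) ⟶ Pic13.prodK k X qq := fun a =>
    pullback.map f (q a) f qq (𝟙 X) (Sigma.ι T' ⟨a⟩) (𝟙 _) (by simp) (by
      rw [Category.comp_id]; exact (hqq ⟨a⟩).symm)
  have hsq : ∀ a, IsPullback (j a) (pullback.snd f (q a)) (pullback.snd f qq) (Sigma.ι T' ⟨a⟩) := fun a => by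
    refine IsPullback.of_right ?_ (pullback.lift_snd _ _ _) (IsPullback.of_hasPullback f qq)
    have e1 : j a ≫ pullback.fst f qq = pullback.fst f (q a) :=
      (pullback.lift_fst _ _ _).trans (Category.comp_id _)
    rw [e1]
    exact (hqq ⟨a⟩).symm ▸ IsPullback.of_hasPullback f (q a)
  haveI : ∀ a, IsClosedImmersion (j a) := fun a => MorphismProperty.of_isPullback (hsq a).flip
    (AlgSpNormCover.isClosedImmersion_sigmaι T' ⟨a⟩)
  haveI : LocallyOfFiniteType (pullback.snd f qq ≫ qq) := inferInstance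
  haveI : IsLocallyNoetherian (Pic13.prodK k X qq) :=
    LocallyOfFiniteType.isLocallyNoetherian (pullback.snd f qq ≫ qq)
  haveI : ∀ a, IsLocallyNoetherian (Pic13.prodK k X (q a)) := fun a =>
    LocallyOfFiniteType.isLocallyNoetherian (j a)
  let A : Fin d → (Pic13.prodK k X qq).Modules := fun a => (Coh.push (j a)).obj (M a)
  have hA : ∀ a, Coh.IsCoh (A a) := fun a => Cyc.Dev.SchemeEquiv.isCoh_push (j a) (hM a)
  refine ⟨TT, qq, inferInstance, hcqq, ⨁ A, CohDelta.IdealMul.DevExt.isCoh_biproduct A hA, ?_⟩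
  rintro L ⟨a, t, ht, ⟨e⟩⟩
  have ht' : (t ≫ Sigma.ι T' ⟨a⟩) ≫ qq = 𝟙 _ := by rw [Category.assoc, hqq, ht]
  refine ⟨t ≫ Sigma.ι T' ⟨a⟩, ht', ?_⟩
  let sa := Pic13.sliceAt k X (q a) t ht
  let s := Pic13.sliceAt k X qq (t ≫ Sigma.ι T' ⟨a⟩) ht'
  have hs : sa ≫ j a = s := by
    refine pullback.hom_ext ?_ ?_
    · rw [Category.assoc, show j a ≫ pullback.fst f qq = pullback.fst f (q a) from
        (pullback.lift_fst _ _ _).trans (Category.comp_id _)]
      exact (Lib.PicBdd.Strata.sliceAt_fst (q a) t ht).trans (Lib.PicBdd.Strata.sliceAt_fst qq _ ht').symm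
    · rw [Category.assoc, (hsq a).w, Lib.PicBdd.Strata.sliceAt_snd qq _ ht',
        reassoc_of% (Lib.PicBdd.Strata.sliceAt_snd (q a) t ht)]
  have hz : ∀ b, b ≠ a → IsZero ((Scheme.Modules.pullback s).obj (A b)) := fun b hb => by
    haveI := (hA b).2
    haveI := (hA b).1
    rw [← Modules.Support.support_eq_empty_iff, Set.eq_empty_iff_forall_notMem]
    intro x hx
    obtain ⟨y, hy⟩ : s x ∈ Set.range (j b) := by
      by_contra h
      exact ZarCoh.SupportPullback.support_pullback_subset s (A b) hx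
        (Cyc.SheafLen.subsingleton_push_stalk (j b) (M b) _ (j b).isClosedEmbedding.isClosed_range
          (fun z _ => Set.mem_range_self z) (s x) h)
    have h1 : pullback.snd f qq (j b y) = pullback.snd f qq (s x) := congrArg (pullback.snd f qq) hy
    rw [← hs, Scheme.Hom.comp_apply, ← Scheme.Hom.comp_apply (j b), (hsq b).w,
      ← Scheme.Hom.comp_apply (j a), (hsq a).w, Scheme.Hom.comp_apply, Scheme.Hom.comp_apply] at h1
    have hd := disjoint_opensRange_sigmaι T' ⟨b⟩ ⟨a⟩ fun e => hb (congrArg ULift.down e)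
    exact (disjoint_iff.1 hd).le
      (show Sigma.ι T' ⟨b⟩ (pullback.snd f (q b) y) ∈
        (Sigma.ι T' ⟨b⟩).opensRange ⊓ (Sigma.ι T' ⟨a⟩).opensRange from ⟨⟨_, rfl⟩, ⟨_, h1.symm⟩⟩)
  obtain ⟨e1⟩ := nonempty_map_biproduct_iso (Scheme.Modules.pullback s) A a hz
  haveI := Cyc.Dev.SchemeCase.isIso_counit (j a) (M a)
  exact ⟨e1 ≪≫ ((Scheme.Modules.pullbackCongr hs).app (A a)).symm ≪≫
    ((Scheme.Modules.pullbackComp sa (j a)).app (A a)).symm ≪≫
    (Scheme.Modules.pullback sa).mapIso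
      (asIso ((Scheme.Modules.pullbackPushforwardAdjunction (j a)).counit.app (M a))) ≪≫ e⟩

variable {k : Type u} [Field k] [IsAlgClosed k] {X : Scheme.{u}} [X.Over (Spec (CommRingCat.of k))]
  {P : Over (Spec (CommRingCat.of k))}
  {φ : ∀ T : Over (Spec (CommRingCat.of k)), PicF.Cl (PicF.XT (X ↘ Spec (CommRingCat.of k)) T) → (T ⟶ P)}
  (hP : PicRel.IsRelPic (X ↘ Spec (CommRingCat.of k)) P φ)

local notation "fX" => (X ↘ Spec (CommRingCat.of k))
local notation "pt" => Over.mk (𝟙 (Spec (CommRingCat.of k)))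

/-- The class of a module at the rational point. -/
abbrev cls (L : X.Modules) : PicF.Cl (PicF.XT fX pt) :=
  PicF.pullCl (pullback.fst fX (𝟙 (Spec (CommRingCat.of k)))) (PicF.cl L)

include hP

omit hP in
theorem slice_eq {T : Scheme.{u}} (q : T ⟶ Spec (CommRingCat.of k))
    (t : Spec (CommRingCat.of k) ⟶ T) (ht : t ≫ q = 𝟙 _) (τ : pt ⟶ Over.mk q) (hτ : τ.left = t) :
    pullback.fst fX (𝟙 (Spec (CommRingCat.of k))) ≫ Pic13.sliceAt k X q t ht =
      PicF.XTmap fX τ := by
  refine pullback.hom_ext ?_ ?_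
  · rw [Category.assoc, Lib.PicBdd.Strata.sliceAt_fst q t ht]
    exact (Category.comp_id _).trans ((pullback.lift_fst _ _ _).trans (Category.comp_id _)).symm
  · rw [Category.assoc, Lib.PicBdd.Strata.sliceAt_snd q t ht, ← Category.assoc, pullback.condition,
      Category.comp_id]
    exact (show pullback.snd fX (𝟙 _) ≫ t = pullback.snd fX (𝟙 _) ≫ τ.left from by rw [hτ]).trans
      (pullback.lift_snd _ _ _).symm

omit hP in
theorem cls_fibre {T : Scheme.{u}} (q : T ⟶ Spec (CommRingCat.of k)) (M : (Pic13.prodK k X q).Modules)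
    (t : Spec (CommRingCat.of k) ⟶ T) (ht : t ≫ q = 𝟙 _) (τ : pt ⟶ Over.mk q) (hτ : τ.left = t) :
    cls (Pic13.fibreMod k X q t ht M) = PicF.pullCl (PicF.XTmap fX τ) (PicF.cl M) :=
  Quot.sound ⟨(Scheme.Modules.pullbackComp _ (Pic13.sliceAt k X q t ht)).app M ≪≫
    (Scheme.Modules.pullbackCongr (slice_eq q t ht τ hτ)).app M⟩

/-- The map on classes at the rational point is injective. -/
theorem phi_injective {c c' : PicF.Cl (PicF.XT fX pt)} (hc : PicF.IsInvertibleCl c)
    (hc' : PicF.IsInvertibleCl c') (h : φ pt c = φ pt c') : c = c' := by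
  obtain ⟨ι₁, W₁, hW₁, hc₁⟩ := hP.locallyInjective pt c c' hc hc' h
  obtain ⟨i₁, z₁, -⟩ := hW₁ (IsLocalRing.closedPoint k)
  haveI : Etale (W₁ i₁).hom := (W₁ i₁).prop
  haveI : Exchange.PicTangent.Classes.Nice k := Exchange.PicTangent.Classes.nice_self k
  obtain ⟨s, hs⟩ := Exchange.PicRoot.Reduce.exists_section (R := k) (W₁ i₁).hom z₁
  let σ : pt ⟶ PicRel.ovr pt (W₁ i₁) := Over.homMk s (by
    show s ≫ (W₁ i₁).hom ≫ 𝟙 _ = 𝟙 _
    rw [Category.comp_id, hs])
  have h3 := congrArg (PicF.pullCl (PicF.XTmap fX σ)) (hc₁ i₁)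
  rwa [← PicLoc.pullCl_comp, ← PicLoc.pullCl_comp, ← PicGrp.XTmap_comp,
    show σ ≫ PicRel.ovrHom _ (W₁ i₁) = 𝟙 _ from Over.OverMorphism.ext hs, PicGrp.XTmap_id,
    PicLoc.pullCl_id, PicLoc.pullCl_id] at h3

/-- The points of the members of a bounded family lie in a quasi-compact open. -/
theorem exists_open_of_isBounded [IsProper fX] (Q : X.Modules → Prop) (hQ : ∀ L, Q L → PicF.IsInvertible L)
    (hb : Pic13.IsBounded k X Q) : ∃ U : P.left.Opens, IsCompact (U : Set ↥P.left) ∧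
      ∀ L, Q L → Set.range (φ pt (cls L)).left.base ⊆ (U : Set ↥P.left) := by
  classical
  obtain ⟨ps, hps⟩ := Lib.PicBdd.Core.exists_covers k hb
  let g : ∀ p : Lib.PicBdd.Strata.Piece k X, Over.mk p.q ⟶ P := fun p => φ _ (PicF.cl p.M)
  let K : Set ↥P.left := ⋃ p ∈ {p | p ∈ ps}, Set.range (g p).left
  have hK : IsCompact K := ps.finite_toSet.isCompact_biUnion fun p _ => by
    haveI := p.qc
    haveI : CompactSpace p.T := QuasiCompact.compactSpace_of_compactSpace p.q
    exact @isCompact_range p.T P.left _ _ _ _ (g p).left.continuous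
  obtain ⟨U, hKU, -, hU⟩ := H22.StrictTransform.exists_compact_open K hK ⊤ (fun _ _ => trivial)
  refine ⟨U, hU, fun L hL => ?_⟩
  obtain ⟨p, hp, t, ht, ⟨e⟩⟩ := hps L hL (hQ L hL)
  let τ : pt ⟶ Over.mk p.q := Over.homMk t ht
  have he : φ pt (cls L) = τ ≫ g p := by
    rw [show cls L = cls (Pic13.fibreMod k X p.q t ht p.M) from
        congrArg (PicF.pullCl _) (Quot.sound ⟨e.symm⟩), cls_fibre p.q p.M t ht τ rfl]
    exact hP.natural _ _ τ _ ⟨_, rfl, p.inv⟩
  rw [he]
  rintro _ ⟨z, rfl⟩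
  exact hKU (Set.mem_biUnion hp ⟨τ.left z, rfl⟩)

/-- Invertible modules whose points lie in a quasi-compact open form a bounded family. -/
theorem isBounded_of_open [IsProper fX] (Q : X.Modules → Prop) (hQ : ∀ L, Q L → PicF.IsInvertible L)
    (U : P.left.Opens) (hU : IsCompact (U : Set ↥P.left))
    (hQU : ∀ L, Q L → Set.range (φ pt (cls L)).left.base ⊆ (U : Set ↥P.left)) :
    Pic13.IsBounded k X Q := by
  classical
  haveI : LocallyOfFiniteType P.hom := by
    haveI := H41.RelPicLfp.lfp_of_isLimitPreserving P (H41.RelPicLfp.isLimitPreserving_rep hP)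
    infer_instance
  let TU : Over (Spec (CommRingCat.of k)) := Over.mk (U.ι ≫ P.hom)
  let g : TU ⟶ P := Over.homMk U.ι rfl
  obtain ⟨ι, V, hV, hc⟩ := hP.locallySurjective TU g
  choose c hci hcg using hc
  have hloc : ∀ x : U, ∃ (i : ι) (W : (V i).left.affineOpens) (w : W.1),
      (V i).hom w.1 = x := fun x => by
    obtain ⟨i, z, hz⟩ := hV x
    obtain ⟨W, hW, hzW, -⟩ := exists_isAffineOpen_mem_and_subset (U := ⊤) (x := z) trivial
    exact ⟨i, ⟨W, hW⟩, ⟨z, hzW⟩, hz⟩
  choose i W w hw using hloc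
  haveI hUc : CompactSpace ↥(U : Set ↥P.left) := isCompact_iff_compactSpace.1 hU
  haveI : ∀ i, Etale (V i).hom := fun i => (V i).prop
  obtain ⟨F, hF⟩ := (@isCompact_univ U _ hUc).elim_finite_subcover
    (fun x : U => (V (i x)).hom '' ((W x).1 : Set (V (i x)).left))
    (fun x => (V (i x)).hom.isOpenMap _ (W x).1.2)
    fun x _ => Set.mem_iUnion.2 ⟨x, (w x).1, (w x).2, hw x⟩
  let en := F.equivFin.symm
  let T : Fin F.card → Scheme.{u} := fun a => (W (en a).1).1.toScheme
  let q : ∀ a, T a ⟶ Spec (CommRingCat.of k) := fun a =>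
    (W (en a).1).1.ι ≫ (V (i (en a).1)).hom ≫ U.ι ≫ P.hom
  let σ : ∀ a, Over.mk (q a) ⟶ PicRel.ovr TU (V (i (en a).1)) := fun a =>
    Over.homMk (W (en a).1).1.ι rfl
  have hc' : ∀ a, PicF.IsInvertibleCl (PicF.pullCl (PicF.XTmap fX (σ a)) (c (i (en a).1))) := fun a =>
    PicLoc.isInvertibleCl_pullCl _ (hci _)
  choose M hMc hMi using hc'
  refine BddFam.Presented.mono k (fun L hL => ?_) (isBounded_finite T q (fun a => inferInstance)
    (fun a => isCompact_iff_compactSpace.1 (W (en a).1).2.isCompact) M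
    fun a => Ample.GG.isCoh_of_isInvertible (hMi a))
  let p := φ pt (cls L)
  let x : U := ⟨p.left (IsLocalRing.closedPoint k), hQU L hL ⟨_, rfl⟩⟩
  obtain ⟨y, hy, z, hz, hzx⟩ := Set.mem_iUnion₂.1 (hF (Set.mem_univ x))
  obtain ⟨a, ha⟩ := en.surjective ⟨y, hy⟩
  obtain rfl : (en a).1 = y := congrArg Subtype.val ha
  let h : T a ⟶ P.left := (W (en a).1).1.ι ≫ (V (i (en a).1)).hom ≫ U.ι
  haveI : Etale h := inferInstance
  have hh : h ⟨z, hz⟩ = p.left (IsLocalRing.closedPoint k) := congrArg Subtype.val hzx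
  haveI : Etale (pullback.snd h p.left) := MorphismProperty.pullback_snd _ _ inferInstance
  obtain ⟨z', -, -⟩ := Scheme.Pullback.exists_preimage_pullback (⟨z, hz⟩ : T a)
    (IsLocalRing.closedPoint k) (f := h) (g := p.left) hh
  haveI : Exchange.PicTangent.Classes.Nice k := Exchange.PicTangent.Classes.nice_self k
  obtain ⟨s, hs⟩ := Exchange.PicRoot.Reduce.exists_section (R := k) (pullback.snd h p.left) z'
  let t := s ≫ pullback.fst h p.left
  have hth : t ≫ h = p.left := by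
    rw [Category.assoc, pullback.condition, reassoc_of% hs]
  have htq : t ≫ q a = 𝟙 _ := by
    rw [show q a = h ≫ P.hom by simp only [q, h, Category.assoc], reassoc_of% hth]
    exact Over.w p
  refine ⟨a, t, htq, ?_⟩
  let τ : pt ⟶ Over.mk (q a) := Over.homMk t htq
  have hg : φ _ (PicF.cl (M a)) = σ a ≫ PicRel.ovrHom TU (V (i (en a).1)) ≫ g := by
    rw [hMc a, hP.natural _ _ (σ a) _ (hci _), hcg]
  have he : φ pt (PicF.pullCl (PicF.XTmap fX τ) (PicF.cl (M a))) = φ pt (cls L) := by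
    rw [hP.natural _ _ τ _ ⟨_, rfl, hMi a⟩, hg]
    exact Over.OverMorphism.ext hth
  have hfix := phi_injective hP (PicLoc.isInvertibleCl_pullCl _ ⟨_, rfl, hMi a⟩)
    (PicLoc.isInvertibleCl_pullCl _ ⟨_, rfl, hQ L hL⟩) he
  rw [← cls_fibre (q a) (M a) t htq τ rfl] at hfix
  haveI : IsIso (pullback.fst fX (𝟙 (Spec (CommRingCat.of k)))) := inferInstance
  have h4 := congrArg (PicF.pullCl (inv (pullback.fst fX (𝟙 (Spec (CommRingCat.of k)))))) hfix
  simp only [cls] at h4
  rw [← PicLoc.pullCl_comp, ← PicLoc.pullCl_comp, IsIso.inv_hom_id, PicLoc.pullCl_id,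
    PicLoc.pullCl_id] at h4
  exact nonempty_iso_of_cl_eq h4

end Groth.Agent.H54.PicBdd
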